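import Groth.Agent.Lib.Helper28.Torsor.BalProdClosed
import Groth.Prelude.Def_NoriFGS

/-!
# Fibre products of torsors along homomorphisms (S19816)

`T₁ ×_T T₂` is a pseudo-torsor under `G₁ ×_G G₂`; it is locally trivial as soon as it receives a
morphism from a locally trivial object (e.g. the universal torsor of a fundamental group scheme).
-/

set_option autoImplicit false
set_option maxHeartbeats 1600000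
universe u
open CategoryTheory CategoryTheory.Limits AlgebraicGeometry MonoidalCategory CartesianMonoidalCategory
  MonObj

namespace Groth.Agent.Lib.Helper28.NoriFP

open Groth.Agent.Lib.Helper28.TorsorLoc Groth.Agent.Lib.Helper28.BalProdClosed

section general

variable {S : Scheme.{u}} {G G₁ G₂ Q T T₁ T₂ : Over S} [GrpObj G] [GrpObj G₁] [GrpObj G₂] [GrpObj Q]
  (φ₁ : G₁ ⟶ G) (φ₂ : G₂ ⟶ G) [IsMonHom φ₁] [IsMonHom φ₂]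
  (π₁ : Q ⟶ G₁) (π₂ : Q ⟶ G₂) [IsMonHom π₁] [IsMonHom π₂] (hQ : IsPullback π₁ π₂ φ₁ φ₂)
  (b : AlgGrp.Action G T) (b₁ : AlgGrp.Action G₁ T₁) (b₂ : AlgGrp.Action G₂ T₂)
  (f₁ : T₁ ⟶ T) (f₂ : T₂ ⟶ T)
  (hf₁ : AlgGrp.Action.IsEquivariant b₁ (b.restrict φ₁) f₁)
  (hf₂ : AlgGrp.Action.IsEquivariant b₂ (b.restrict φ₂) f₂)

omit [IsMonHom π₁] [IsMonHom π₂] [GrpObj Q] [GrpObj G₂] [IsMonHom φ₂] in
include hf₁ in
/-- equivariance on points -/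
lemma pt_equiv {T' : Over S} (g : T' ⟶ G₁) (x : T' ⟶ T₁) :
    pt b₁ g x ≫ f₁ = pt b (g ≫ φ₁) (x ≫ f₁) := by
  unfold pt
  have h : b₁.act ≫ f₁ = (G₁ ◁ f₁) ≫ (b.restrict φ₁).act := hf₁
  rw [Category.assoc, h, lift_whiskerLeft_assoc, AlgGrp.Action.lift_restrict_act]

omit [IsMonHom π₁] [GrpObj Q] in
lemma pt_restrict {T' : Over S} {H : Over S} [GrpObj H] (ψ : H ⟶ G₁) [IsMonHom ψ] (g : T' ⟶ H)
    (x : T' ⟶ T₁) : pt (b₁.restrict ψ) g x = pt b₁ (g ≫ ψ) x := by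
  unfold pt
  rw [AlgGrp.Action.lift_restrict_act]

include hQ hf₁ hf₂ in
lemma compat :
    ((Q ◁ pullback.fst f₁ f₂) ≫ (b₁.restrict π₁).act) ≫ f₁ =
      ((Q ◁ pullback.snd f₁ f₂) ≫ (b₂.restrict π₂).act) ≫ f₂ := by
  apply AlgGrp.Action.hom_ext_lift₂
  intro T' q x
  have e1 : lift q x ≫ ((Q ◁ pullback.fst f₁ f₂) ≫ (b₁.restrict π₁).act) ≫ f₁ =
      pt b ((q ≫ π₁) ≫ φ₁) ((x ≫ pullback.fst f₁ f₂) ≫ f₁) := by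
    rw [← pt_equiv φ₁ b b₁ f₁ hf₁, ← pt_restrict b₁ π₁]
    unfold pt
    simp only [Category.assoc, lift_whiskerLeft_assoc]
  have e2 : lift q x ≫ ((Q ◁ pullback.snd f₁ f₂) ≫ (b₂.restrict π₂).act) ≫ f₂ =
      pt b ((q ≫ π₂) ≫ φ₂) ((x ≫ pullback.snd f₁ f₂) ≫ f₂) := by
    rw [← pt_equiv φ₂ b b₂ f₂ hf₂, ← pt_restrict b₂ π₂]
    unfold pt
    simp only [Category.assoc, lift_whiskerLeft_assoc]
  rw [e1, e2, Category.assoc, Category.assoc, Category.assoc, Category.assoc, hQ.w,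
    pullback.condition]

/-- the action morphism on the fibre product -/
noncomputable def actMor : Q ⊗ pullback f₁ f₂ ⟶ pullback f₁ f₂ :=
  pullback.lift ((Q ◁ pullback.fst f₁ f₂) ≫ (b₁.restrict π₁).act)
    ((Q ◁ pullback.snd f₁ f₂) ≫ (b₂.restrict π₂).act)
    (compat φ₁ φ₂ π₁ π₂ hQ b b₁ b₂ f₁ f₂ hf₁ hf₂)

/-- the action of `Q` on the fibre product -/
noncomputable def fpAction : AlgGrp.Action Q (pullback f₁ f₂) :=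
  actionOfJointlyMono (pullback.fst f₁ f₂) (pullback.snd f₁ f₂)
    (fun u v h1 h2 => pullback.hom_ext h1 h2) (b₁.restrict π₁) (b₂.restrict π₂)
    (actMor φ₁ φ₂ π₁ π₂ hQ b b₁ b₂ f₁ f₂ hf₁ hf₂)
    (pullback.lift_fst _ _ _) (pullback.lift_snd _ _ _)

lemma fpAction_fst :
    AlgGrp.Action.IsEquivariant (fpAction φ₁ φ₂ π₁ π₂ hQ b b₁ b₂ f₁ f₂ hf₁ hf₂)
      (b₁.restrict π₁) (pullback.fst f₁ f₂) :=
  pullback.lift_fst _ _ _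

lemma fpAction_snd :
    AlgGrp.Action.IsEquivariant (fpAction φ₁ φ₂ π₁ π₂ hQ b b₁ b₂ f₁ f₂ hf₁ hf₂)
      (b₂.restrict π₂) (pullback.snd f₁ f₂) :=
  pullback.lift_snd _ _ _

lemma pt_fpAction_fst {T' : Over S} (q : T' ⟶ Q) (x : T' ⟶ pullback f₁ f₂) :
    pt (fpAction φ₁ φ₂ π₁ π₂ hQ b b₁ b₂ f₁ f₂ hf₁ hf₂) q x ≫ pullback.fst f₁ f₂ =
      pt b₁ (q ≫ π₁) (x ≫ pullback.fst f₁ f₂) := by
  rw [← pt_restrict b₁ π₁]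
  unfold pt
  have h : (fpAction φ₁ φ₂ π₁ π₂ hQ b b₁ b₂ f₁ f₂ hf₁ hf₂).act ≫ pullback.fst f₁ f₂ =
      (Q ◁ pullback.fst f₁ f₂) ≫ (b₁.restrict π₁).act :=
    fpAction_fst φ₁ φ₂ π₁ π₂ hQ b b₁ b₂ f₁ f₂ hf₁ hf₂
  rw [Category.assoc, h, lift_whiskerLeft_assoc]

lemma pt_fpAction_snd {T' : Over S} (q : T' ⟶ Q) (x : T' ⟶ pullback f₁ f₂) :
    pt (fpAction φ₁ φ₂ π₁ π₂ hQ b b₁ b₂ f₁ f₂ hf₁ hf₂) q x ≫ pullback.snd f₁ f₂ =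
      pt b₂ (q ≫ π₂) (x ≫ pullback.snd f₁ f₂) := by
  rw [← pt_restrict b₂ π₂]
  unfold pt
  have h : (fpAction φ₁ φ₂ π₁ π₂ hQ b b₁ b₂ f₁ f₂ hf₁ hf₂).act ≫ pullback.snd f₁ f₂ =
      (Q ◁ pullback.snd f₁ f₂) ≫ (b₂.restrict π₂).act :=
    fpAction_snd φ₁ φ₂ π₁ π₂ hQ b b₁ b₂ f₁ f₂ hf₁ hf₂
  rw [Category.assoc, h, lift_whiskerLeft_assoc]

/-- the fibre product is a pseudo-torsor -/
theorem isPseudoTorsor_fp (hT : IsIso (lift b.act (snd G T)))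
    (hT₁ : IsIso (lift b₁.act (snd G₁ T₁))) (hT₂ : IsIso (lift b₂.act (snd G₂ T₂))) :
    IsIso (lift (fpAction φ₁ φ₂ π₁ π₂ hQ b b₁ b₂ f₁ f₂ hf₁ hf₂).act (snd Q (pullback f₁ f₂))) := by
  rw [psi_iff]
  intro T' x x'
  obtain ⟨g₁, hg₁, ug₁⟩ := (psi_iff b₁).1 hT₁ T' (x ≫ pullback.fst f₁ f₂) (x' ≫ pullback.fst f₁ f₂)
  obtain ⟨g₂, hg₂, ug₂⟩ := (psi_iff b₂).1 hT₂ T' (x ≫ pullback.snd f₁ f₂) (x' ≫ pullback.snd f₁ f₂)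
  have hg₁' : pt b₁ g₁ (x ≫ pullback.fst f₁ f₂) = x' ≫ pullback.fst f₁ f₂ := hg₁
  have hg₂' : pt b₂ g₂ (x ≫ pullback.snd f₁ f₂) = x' ≫ pullback.snd f₁ f₂ := hg₂
  obtain ⟨g, -, ug⟩ := (psi_iff b).1 hT T' ((x ≫ pullback.fst f₁ f₂) ≫ f₁)
    ((x' ≫ pullback.fst f₁ f₂) ≫ f₁)
  have k1 : g₁ ≫ φ₁ = g := by
    apply ug
    show pt b (g₁ ≫ φ₁) ((x ≫ pullback.fst f₁ f₂) ≫ f₁) = _
    rw [← pt_equiv φ₁ b b₁ f₁ hf₁, hg₁']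
  have k2 : g₂ ≫ φ₂ = g := by
    apply ug
    show pt b (g₂ ≫ φ₂) ((x ≫ pullback.fst f₁ f₂) ≫ f₁) = _
    have c1 : (x ≫ pullback.fst f₁ f₂) ≫ f₁ = (x ≫ pullback.snd f₁ f₂) ≫ f₂ := by
      rw [Category.assoc, Category.assoc, pullback.condition]
    have c2 : (x' ≫ pullback.fst f₁ f₂) ≫ f₁ = (x' ≫ pullback.snd f₁ f₂) ≫ f₂ := by
      rw [Category.assoc, Category.assoc, pullback.condition]
    rw [c1, c2, ← pt_equiv φ₂ b b₂ f₂ hf₂, hg₂']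
  refine ⟨hQ.lift g₁ g₂ (k1.trans k2.symm), ?_, ?_⟩
  · show pt _ _ x = x'
    apply pullback.hom_ext
    · rw [pt_fpAction_fst, hQ.lift_fst, hg₁']
    · rw [pt_fpAction_snd, hQ.lift_snd, hg₂']
  · intro q' hq'
    have hq'' : pt (fpAction φ₁ φ₂ π₁ π₂ hQ b b₁ b₂ f₁ f₂ hf₁ hf₂) q' x = x' := hq'
    apply hQ.hom_ext
    · rw [hQ.lift_fst]
      apply ug₁
      show pt b₁ (q' ≫ π₁) (x ≫ pullback.fst f₁ f₂) = _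
      rw [← pt_fpAction_fst φ₁ φ₂ π₁ π₂ hQ b b₁ b₂ f₁ f₂ hf₁ hf₂, hq'']
    · rw [hQ.lift_snd]
      apply ug₂
      show pt b₂ (q' ≫ π₂) (x ≫ pullback.snd f₁ f₂) = _
      rw [← pt_fpAction_snd φ₁ φ₂ π₁ π₂ hQ b b₁ b₂ f₁ f₂ hf₁ hf₂, hq'']

omit [GrpObj G] [GrpObj G₁] [GrpObj G₂] [GrpObj Q] in
/-- local triviality transfers along a morphism -/
lemma locTriv_of_hom (K : Precoverage Scheme.{u}) {P Z : Over S} (m : P ⟶ Z)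
    (hP : NonAbH1.IsLocallyTrivialFor K P) : NonAbH1.IsLocallyTrivialFor K Z := by
  obtain ⟨R, hR, hsec⟩ := hP
  refine ⟨R, hR, fun S' f hf => ?_⟩
  obtain ⟨s, hs⟩ := hsec f hf
  exact ⟨s ≫ m.left, by rw [Category.assoc, Over.w m, hs]⟩

end general

section main

variable {k : Type u} [Field k] {X : Scheme.{u}} [X.Over (Spec (CommRingCat.of k))]

/-- composite of morphisms of pointed torsors -/
lemma isPtTorsorHom_comp {πN G₁ G : Over (Spec (CommRingCat.of k))} [GrpObj πN] [GrpObj G₁] [GrpObj G]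
    {P T₁ T : Over X}
    (a : AlgGrp.Action (Red.bc (X ↘ Spec (CommRingCat.of k)) πN) P) (p : Spec (CommRingCat.of k) ⟶ P.left)
    (b₁ : AlgGrp.Action (Red.bc (X ↘ Spec (CommRingCat.of k)) G₁) T₁) (t₁ : Spec (CommRingCat.of k) ⟶ T₁.left)
    (b : AlgGrp.Action (Red.bc (X ↘ Spec (CommRingCat.of k)) G) T) (t : Spec (CommRingCat.of k) ⟶ T.left)
    (ρ₁ : πN ⟶ G₁) [IsMonHom ρ₁] (φ₁ : G₁ ⟶ G) [IsMonHom φ₁] (u₁ : P ⟶ T₁) (f₁ : T₁ ⟶ T)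
    (hu : NoriFGS.IsPtTorsorHom a p b₁ t₁ ρ₁ u₁) (hf : NoriFGS.IsPtTorsorHom b₁ t₁ b t φ₁ f₁) :
    NoriFGS.IsPtTorsorHom a p b t (ρ₁ ≫ φ₁) (u₁ ≫ f₁) := by
  obtain ⟨hu1, hu2⟩ := hu
  obtain ⟨hf1, hf2⟩ := hf
  refine ⟨?_, ?_⟩
  · show a.act ≫ u₁ ≫ f₁ = (_ ◁ (u₁ ≫ f₁)) ≫ AlgGrp.Action.act _
    apply AlgGrp.Action.hom_ext_lift₂
    intro T' g y
    have e1 : lift g y ≫ a.act ≫ u₁ ≫ f₁ = (pt a g y ≫ u₁) ≫ f₁ := by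
      unfold pt; simp only [Category.assoc]
    rw [e1, pt_equiv _ b₁ a u₁ hu1, pt_equiv _ b b₁ f₁ hf1, lift_whiskerLeft_assoc,
      AlgGrp.Action.lift_restrict_act]
    unfold pt
    rw [Functor.map_comp]
    simp only [Category.assoc]
  · rw [Over.comp_left, ← Category.assoc, hu2, hf2]

/-- S19816 -/
theorem main
    (x : Spec (CommRingCat.of k) ⟶ X)
    (πN : Over (Spec (CommRingCat.of k))) [GrpObj πN] (P : Over X)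
    (a : AlgGrp.Action (Red.bc (X ↘ Spec (CommRingCat.of k)) πN) P) (p : Spec (CommRingCat.of k) ⟶ P.left)
    (hP : NoriFGS.IsFGS x πN a p)
    (G G₁ G₂ : Over (Spec (CommRingCat.of k))) [GrpObj G] [GrpObj G₁] [GrpObj G₂]
    [IsFinite G.hom] [IsFinite G₁.hom] [IsFinite G₂.hom]
    (φ₁ : G₁ ⟶ G) (φ₂ : G₂ ⟶ G) [IsMonHom φ₁] [IsMonHom φ₂]
    (T T₁ T₂ : Over X)
    (b : AlgGrp.Action (Red.bc (X ↘ Spec (CommRingCat.of k)) G) T)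
    (b₁ : AlgGrp.Action (Red.bc (X ↘ Spec (CommRingCat.of k)) G₁) T₁)
    (b₂ : AlgGrp.Action (Red.bc (X ↘ Spec (CommRingCat.of k)) G₂) T₂)
    (hT : NonAbH1.IsTorsorFor Scheme.fpqcPrecoverage b)
    (hT₁ : NonAbH1.IsTorsorFor Scheme.fpqcPrecoverage b₁)
    (hT₂ : NonAbH1.IsTorsorFor Scheme.fpqcPrecoverage b₂)
    (t : Spec (CommRingCat.of k) ⟶ T.left) (t₁ : Spec (CommRingCat.of k) ⟶ T₁.left)
    (t₂ : Spec (CommRingCat.of k) ⟶ T₂.left)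
    (ht : t ≫ T.hom = x) (ht₁ : t₁ ≫ T₁.hom = x) (ht₂ : t₂ ≫ T₂.hom = x)
    (f₁ : T₁ ⟶ T) (f₂ : T₂ ⟶ T)
    (hf₁ : NoriFGS.IsPtTorsorHom b₁ t₁ b t φ₁ f₁) (hf₂ : NoriFGS.IsPtTorsorHom b₂ t₂ b t φ₂ f₂)
    (Q : Over (Spec (CommRingCat.of k))) [GrpObj Q] (π₁ : Q ⟶ G₁) (π₂ : Q ⟶ G₂)
    [IsMonHom π₁] [IsMonHom π₂] (hQ : IsPullback π₁ π₂ φ₁ φ₂) :
    ∃ c : AlgGrp.Action (Red.bc (X ↘ Spec (CommRingCat.of k)) Q) (pullback f₁ f₂),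
      AlgGrp.Action.IsEquivariant c
        (b₁.restrict ((Over.pullback (X ↘ Spec (CommRingCat.of k))).map π₁)) (pullback.fst f₁ f₂) ∧
      AlgGrp.Action.IsEquivariant c
        (b₂.restrict ((Over.pullback (X ↘ Spec (CommRingCat.of k))).map π₂)) (pullback.snd f₁ f₂) ∧
      NonAbH1.IsTorsorFor Scheme.fpqcPrecoverage c := by
  have hQX : IsPullback ((Over.pullback (X ↘ Spec (CommRingCat.of k))).map π₁)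
      ((Over.pullback (X ↘ Spec (CommRingCat.of k))).map π₂)
      ((Over.pullback (X ↘ Spec (CommRingCat.of k))).map φ₁)
      ((Over.pullback (X ↘ Spec (CommRingCat.of k))).map φ₂) :=
    hQ.map (Over.pullback (X ↘ Spec (CommRingCat.of k)))
  obtain ⟨-, hPt, hp, huniv⟩ := hP
  obtain ⟨ρ₁, hρ₁, u₁, hu₁, -⟩ := huniv G₁ T₁ b₁ t₁ hT₁ ht₁
  obtain ⟨ρ₂, hρ₂, u₂, hu₂, -⟩ := huniv G₂ T₂ b₂ t₂ hT₂ ht₂
  obtain ⟨ρ, hρ, u, hu, huniq⟩ := huniv G T b t hT ht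
  have e1 := (huniq (ρ₁ ≫ φ₁) (u₁ ≫ f₁) (isPtTorsorHom_comp a p b₁ t₁ b t ρ₁ φ₁ u₁ f₁ hu₁ hf₁)).2
  have e2 := (huniq (ρ₂ ≫ φ₂) (u₂ ≫ f₂) (isPtTorsorHom_comp a p b₂ t₂ b t ρ₂ φ₂ u₂ f₂ hu₂ hf₂)).2
  refine ⟨fpAction _ _ _ _ hQX b b₁ b₂ f₁ f₂ hf₁.1 hf₂.1, fpAction_fst _ _ _ _ hQX b b₁ b₂ f₁ f₂ hf₁.1 hf₂.1,
    fpAction_snd _ _ _ _ hQX b b₁ b₂ f₁ f₂ hf₁.1 hf₂.1,
    isPseudoTorsor_fp _ _ _ _ hQX b b₁ b₂ f₁ f₂ hf₁.1 hf₂.1 hT.1 hT₁.1 hT₂.1, ?_⟩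
  exact locTriv_of_hom Scheme.fpqcPrecoverage (pullback.lift u₁ u₂ (e1.trans e2.symm)) hPt.2

end main

end Groth.Agent.Lib.Helper28.NoriFP
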